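import Mathlib

/-!
# Dimension of a minimal invariant subspace of an element of prime order `r`

`F` a finite field with `q` elements, `S` an endomorphism of a nonzero finite-dimensional space `U`
with `S ^ r = 1`, no nonzero fixed vector and no proper nonzero invariant subspace.  Then
`dim U = ord_r(q)`.
-/

set_option autoImplicit false

namespace Cfsg.Agent.Lib.Helper38.OHyp

open Polynomial Module

universe u v

/-- the order of `q = p ^ n` modulo `r`, in both forms -/
theorem orderOf_unitOfCoprime_eq (q r : ℕ) (h : q.Coprime r) :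
    orderOf (ZMod.unitOfCoprime q h) = orderOf ((q : ℕ) : ZMod r) := by
  rw [← orderOf_units, ZMod.coe_unitOfCoprime]

/-- an irreducible polynomial killing a nonzero vector of `U` (with `S ^ r = 1`, no fixed vector)
has degree `ord_r(q)` -/
theorem irr_factor {F : Type u} [Field F] [Fintype F] {U : Type v} [AddCommGroup U] [Module F U]
    [FiniteDimensional F U] [Nontrivial U] (S : Module.End F U) (r : ℕ) (hr : r.Prime)
    (hrq : ¬ r ∣ Fintype.card F) (hS : S ^ r = 1) (hfix : ∀ u, S u = u → u = 0) :
    ∃ (P : F[X]) (v : U), Irreducible P ∧ v ≠ 0 ∧ aeval S P v = 0 ∧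
      P.natDegree = orderOf ((Fintype.card F : ℕ) : ZMod r) ∧ P.natDegree ≤ finrank F U := by
  classical
  have hfr : Fact r.Prime := ⟨hr⟩
  have hint : IsIntegral F S := Algebra.IsIntegral.isIntegral S
  have hf0 : minpoly F S ≠ 0 := minpoly.ne_zero hint
  obtain ⟨P, hPirr, hPdvd⟩ := WfDvdMonoid.exists_irreducible_factor (minpoly.not_isUnit F S) hf0
  -- `P(S)` is not injective
  have hker : ∃ v : U, v ≠ 0 ∧ aeval S P v = 0 := by
    by_contra hcon
    push Not at hcon
    obtain ⟨h, hh⟩ := hPdvd
    have hh0 : h ≠ 0 := by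
      intro h0
      apply hf0
      rw [hh, h0, mul_zero]
    have hhS : aeval S h = 0 := by
      apply LinearMap.ext
      intro u
      by_contra hne
      have h1 : aeval S P (aeval S h u) = 0 := by
        have h2 : aeval S (minpoly F S) u = 0 := by rw [minpoly.aeval]; rfl
        rw [hh, map_mul] at h2
        exact h2
      exact hcon _ hne h1
    have h3 := minpoly.dvd F S hhS
    rw [hh] at h3
    obtain ⟨c, hc⟩ := h3
    have h4 : h * 1 = h * (P * c) := by
      rw [mul_one]
      calc h = P * h * c := hc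
        _ = h * (P * c) := by ring
    have h5 := mul_left_cancel₀ hh0 h4
    exact hPirr.not_isUnit (IsUnit.of_mul_eq_one _ h5.symm)
  obtain ⟨v, hv0, hv⟩ := hker
  -- `P ∣ X ^ r - 1`
  have hXr : aeval S (X ^ r - 1 : F[X]) = 0 := by
    rw [map_sub, map_pow, aeval_X, map_one, hS, sub_self]
  have hPXr : P ∣ (X ^ r - 1 : F[X]) := hPdvd.trans (minpoly.dvd F S hXr)
  rw [← cyclotomic_prime_mul_X_sub_one F r] at hPXr
  have hPcyc : P ∣ cyclotomic r F := by
    rcases hPirr.prime.dvd_or_dvd hPXr with h | h
    · exact h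
    · exfalso
      obtain ⟨c, hc⟩ := h
      have h1 : aeval S (X - 1 : F[X]) v = 0 := by
        rw [hc, mul_comm, map_mul, Module.End.mul_apply, hv, map_zero]
      rw [map_sub, aeval_X, map_one, LinearMap.sub_apply, Module.End.one_apply, sub_eq_zero] at h1
      exact hv0 (hfix v h1)
  -- the degree
  obtain ⟨p, hp⟩ := CharP.exists F
  have hpp : Fact p.Prime := ⟨CharP.char_is_prime F p⟩
  obtain ⟨n, -, hn⟩ := FiniteField.card F p
  have hcop : p.Coprime r := by
    rw [Nat.coprime_comm, hr.coprime_iff_not_dvd]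
    intro hrp
    apply hrq
    rw [hn]
    exact hrp.trans (dvd_pow_self p n.ne_zero)
  have hdeg := natDegree_of_dvd_cyclotomic_of_irreducible hn hcop hPcyc hPirr
  rw [orderOf_unitOfCoprime_eq, ← hn] at hdeg
  refine ⟨P, v, hPirr, hv0, hv, hdeg, ?_⟩
  have h1 : P.natDegree ≤ (minpoly F S).natDegree := natDegree_le_of_dvd hPdvd hf0
  have h2 : (minpoly F S).natDegree ≤ S.charpoly.natDegree :=
    natDegree_le_of_dvd (LinearMap.minpoly_dvd_charpoly S) (S.charpoly_monic.ne_zero)
  rw [LinearMap.charpoly_natDegree] at h2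
  exact h1.trans h2

/-- **[IRRDIM]**, linear version -/
theorem irr_dim {F : Type u} [Field F] [Fintype F] {U : Type v} [AddCommGroup U] [Module F U]
    [FiniteDimensional F U] [Nontrivial U] (S : Module.End F U) (r : ℕ) (hr : r.Prime)
    (hrq : ¬ r ∣ Fintype.card F) (hS : S ^ r = 1) (hfix : ∀ u, S u = u → u = 0)
    (hmin : ∀ W : Submodule F U, (∀ w ∈ W, S w ∈ W) → W = ⊥ ∨ W = ⊤) :
    finrank F U = orderOf ((Fintype.card F : ℕ) : ZMod r) := by
  classical
  obtain ⟨P, v, hPirr, hv0, hv, hdeg, hle⟩ := irr_factor S r hr hrq hS hfix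
  apply le_antisymm _ (hdeg ▸ hle)
  rw [← hdeg]
  -- the span of `v, S v, ..., S^(i-1) v`
  have hipos : 0 < P.natDegree := hPirr.natDegree_pos
  have hlc : P.coeff P.natDegree ≠ 0 := by
    rw [coeff_natDegree, leadingCoeff_ne_zero]
    exact hPirr.ne_zero
  have htop : (S ^ P.natDegree) v ∈
      Submodule.span F (Set.range (fun j : Fin P.natDegree => (S ^ (j : ℕ)) v)) := by
    have h1 := hv
    rw [aeval_eq_sum_range, LinearMap.sum_apply, Finset.sum_range_succ] at h1
    have h2 : P.coeff P.natDegree • (S ^ P.natDegree) v =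
        - ∑ j ∈ Finset.range P.natDegree, P.coeff j • (S ^ j) v := by
      rw [eq_neg_iff_add_eq_zero, add_comm]
      simpa using h1
    have h3 : (S ^ P.natDegree) v = (P.coeff P.natDegree)⁻¹ •
        (- ∑ j ∈ Finset.range P.natDegree, P.coeff j • (S ^ j) v) := by
      rw [← h2, smul_smul, inv_mul_cancel₀ hlc, one_smul]
    rw [h3]
    apply Submodule.smul_mem
    apply Submodule.neg_mem
    apply Submodule.sum_mem
    intro j hj
    apply Submodule.smul_mem
    apply Submodule.subset_span
    exact ⟨⟨j, Finset.mem_range.1 hj⟩, rfl⟩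
  have hinv : ∀ w ∈ Submodule.span F (Set.range (fun j : Fin P.natDegree => (S ^ (j : ℕ)) v)),
      S w ∈ Submodule.span F (Set.range (fun j : Fin P.natDegree => (S ^ (j : ℕ)) v)) := by
    intro w hw
    induction hw using Submodule.span_induction with
    | mem x hx =>
      obtain ⟨j, rfl⟩ := hx
      by_cases hj : (j : ℕ) + 1 < P.natDegree
      · apply Submodule.subset_span
        refine ⟨⟨(j : ℕ) + 1, hj⟩, ?_⟩
        show (S ^ ((j : ℕ) + 1)) v = S ((S ^ (j : ℕ)) v)
        rw [pow_succ', Module.End.mul_apply]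
      · have hj' : (j : ℕ) + 1 = P.natDegree := by
          have := j.2
          omega
        have h4 : S ((S ^ (j : ℕ)) v) = (S ^ P.natDegree) v := by
          have h7 : (S ^ ((j : ℕ) + 1)) v = S ((S ^ (j : ℕ)) v) := by
            rw [pow_succ', Module.End.mul_apply]
          rw [← h7]
          exact congrArg (fun k : ℕ => (S ^ k) v) hj'
        rw [h4]
        exact htop
    | zero => rw [map_zero]; exact Submodule.zero_mem _
    | add x y _ _ hx hy => rw [map_add]; exact Submodule.add_mem _ hx hy
    | smul c x _ hx => rw [map_smul]; exact Submodule.smul_mem _ c hx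
  have hvW : v ∈ Submodule.span F (Set.range (fun j : Fin P.natDegree => (S ^ (j : ℕ)) v)) := by
    apply Submodule.subset_span
    exact ⟨⟨0, hipos⟩, by simp⟩
  rcases hmin _ hinv with h | h
  · exfalso
    rw [h, Submodule.mem_bot] at hvW
    exact hv0 hvW
  · have h5 := finrank_range_le_card (R := F) (fun j : Fin P.natDegree => (S ^ (j : ℕ)) v)
    rw [Fintype.card_fin] at h5
    have h6 : finrank F (Submodule.span F
        (Set.range (fun j : Fin P.natDegree => (S ^ (j : ℕ)) v))) = finrank F U := by
      rw [h]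
      exact finrank_top F U
    rw [← h6]
    exact h5

end Cfsg.Agent.Lib.Helper38.OHyp
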