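import Mathlib
import Cfsg.Agent.Lib.Helper38.OHyp.IrrDimLin
import Cfsg.Agent.Lib.Helper27.OHyp.BlkDefs
import Cfsg.Agent.Lib.Helper59.OHyp.BlkDefs

/-!
# Project OHYP (S5992): package [IRRDIM] (both cuts of [BLK])
-/

set_option autoImplicit false
open Matrix

namespace Cfsg.Agent.Lib.Helper38.OHyp

open Polynomial Module Cfsg.Agent.Lib.Helper23.OHyp

universe u

/-- matrix version of `irr_dim` -/
theorem irr_dim_mat {F : Type u} [Field F] [Fintype F] {ι : Type} [Fintype ι] [DecidableEq ι]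
    (r : ℕ) (x : Matrix ι ι F) (hr : r.Prime) (hrq : ¬ r ∣ Fintype.card F) (hx : x ^ r = 1)
    (U : Submodule F (ι → F)) (hinv : Inv x U) (hne : U ≠ ⊥)
    (hmin : ∀ U' : Submodule F (ι → F), U' ≤ U → Inv x U' → U' = ⊥ ∨ U' = U)
    (hfix : ∀ v ∈ U, x *ᵥ v = v → v = 0) :
    Module.finrank F U = orderOf ((Fintype.card F : ℕ) : ZMod r) := by
  classical
  have hTU : ∀ u ∈ U, Matrix.toLin' x u ∈ U := fun u hu => hinv ⟨u, hu, rfl⟩
  have hnt : Nontrivial ↥U := Submodule.nontrivial_iff_ne_bot.2 hne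
  have hTr : (Matrix.toLin' x) ^ r = 1 := by
    have h1 : (Matrix.toLinAlgEquiv' x) ^ r = (1 : Module.End F (ι → F)) := by
      rw [← map_pow, hx, map_one]
    exact h1
  have hpow : ∀ (n : ℕ) (u : U),
      ((((Matrix.toLin' x).restrict hTU) ^ n) u : ι → F) = ((Matrix.toLin' x) ^ n) u := by
    intro n
    induction n with
    | zero => intro u; rfl
    | succ n ih =>
      intro u
      rw [pow_succ, Module.End.mul_apply, ih, pow_succ, Module.End.mul_apply]
      rfl
  apply irr_dim ((Matrix.toLin' x).restrict hTU) r hr hrq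
  · apply LinearMap.ext
    intro u
    apply Subtype.ext
    rw [hpow, hTr]
    rfl
  · intro u hu
    have h1 : x *ᵥ (u : ι → F) = u := by
      have := congrArg Subtype.val hu
      exact this
    exact Subtype.ext (hfix u u.2 h1)
  · intro W hW
    have hInv' : Inv x (W.map U.subtype) := by
      rintro _ ⟨_, ⟨w, hw, rfl⟩, rfl⟩
      exact ⟨(Matrix.toLin' x).restrict hTU w, hW w hw, rfl⟩
    have hle : W.map U.subtype ≤ U := by
      rintro _ ⟨w, -, rfl⟩
      exact w.2
    rcases hmin _ hle hInv' with h | h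
    · left
      rw [eq_bot_iff]
      intro w hw
      have h1 : (w : ι → F) ∈ W.map U.subtype := ⟨w, hw, rfl⟩
      rw [h, Submodule.mem_bot] at h1
      rw [Submodule.mem_bot]
      exact Subtype.ext h1
    · right
      rw [eq_top_iff]
      intro w _
      have h1 : (w : ι → F) ∈ W.map U.subtype := by
        rw [h]
        exact w.2
      obtain ⟨w', hw', hww⟩ := h1
      have : w' = w := Subtype.ext hww
      rw [← this]
      exact hw'

/-- no nonzero fixed vector in the moved space -/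
theorem nofix_movSp {F : Type u} [Field F] {ι : Type} [Fintype ι] [DecidableEq ι]
    (r : ℕ) (x : Matrix ι ι F) (hr0 : (r : F) ≠ 0) (hx : x ^ r = 1) :
    ∀ v ∈ movSp x, x *ᵥ v = v → v = 0 := by
  rintro v ⟨u, rfl⟩ hv
  have hTr : (Matrix.toLin' x) ^ r = 1 := by
    have h1 : (Matrix.toLinAlgEquiv' x) ^ r = (1 : Module.End F (ι → F)) := by
      rw [← map_pow, hx, map_one]
    exact h1
  have hfixv : Matrix.toLin' x ((Matrix.toLin' x - 1) u) = (Matrix.toLin' x - 1) u := hv
  have hpowv : ∀ t : ℕ, ((Matrix.toLin' x) ^ t) ((Matrix.toLin' x - 1) u) =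
      (Matrix.toLin' x - 1) u := by
    intro t
    induction t with
    | zero => rfl
    | succ t ih => rw [pow_succ, Module.End.mul_apply, hfixv, ih]
  have htel : ∀ t : ℕ, ((Matrix.toLin' x) ^ t) ((Matrix.toLin' x - 1) u) =
      ((Matrix.toLin' x) ^ (t + 1)) u - ((Matrix.toLin' x) ^ t) u := by
    intro t
    rw [LinearMap.sub_apply, Module.End.one_apply, map_sub, pow_succ, Module.End.mul_apply]
  have hsum : ∑ t ∈ Finset.range r, ((Matrix.toLin' x) ^ t) ((Matrix.toLin' x - 1) u) = 0 := by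
    simp_rw [htel]
    rw [Finset.sum_range_sub (fun t => ((Matrix.toLin' x) ^ t) u), hTr]
    simp
  simp_rw [hpowv] at hsum
  rw [Finset.sum_const, Finset.card_range, ← Nat.cast_smul_eq_nsmul F] at hsum
  rcases smul_eq_zero.1 hsum with h | h
  · exact absurd h hr0
  · exact h

/-- **[IRRDIM]**, helper27's cut -/
theorem pkgIrrDim : Cfsg.Agent.Lib.Helper27.OHyp.PkgIrrDim.{u} := by
  intro F _ _ ι _ _ Q r x hStd U hU hMin
  exact irr_dim_mat r x hStd.prime hStd.ndvd hStd.pow U hMin.1 hMin.2.1 hMin.2.2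
    (fun v hv => nofix_movSp r x hStd.ne hStd.pow v (hU hv))

/-- **[IRRDIM]**, helper59's cut -/
theorem pkgIrrDim59 : Cfsg.Agent.Lib.Helper59.OHyp.PkgIrrDim.{u} := by
  intro F _ _ ι _ _ r x hr hrq hx U hMin hNF
  exact irr_dim_mat r x hr hrq hx U hMin.1 hMin.2.1 hMin.2.2 hNF

/-- **[NOFIX]**, helper27's cut -/
theorem pkgNoFix : Cfsg.Agent.Lib.Helper27.OHyp.PkgNoFix.{u} := by
  intro F _ _ ι _ _ Q r x hStd
  exact nofix_movSp r x hStd.ne hStd.pow

/-- **[NOFIX]**, helper59's cut -/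
theorem pkgNoFix59 : Cfsg.Agent.Lib.Helper59.OHyp.PkgNoFix.{u} := by
  intro F _ ι _ _ r x hr0 hx
  exact nofix_movSp r x hr0 hx

end Cfsg.Agent.Lib.Helper38.OHyp
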